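import Cfsg.Agent.Lib.Fischer.Local.Space
import Cfsg.Agent.GenA.Tower.Transport

/-!
Fischer's theorem: the list is invariant; a space smaller than the bound is on the list.
-/

set_option autoImplicit false
set_option linter.unusedSectionVars false

namespace Cfsg.Agent.Fischer

open Cfsg.Agent.ThreeTransp
open Cfsg.Agent.ThreeTransp.Factor (nb Hd Sd Dq)
open Cfsg.Agent.GenA.Tower (sdCongr image_Dq quotCongr subCongr map_pair center_bot type22 type23)

universe u v

/-- Type M(24) is invariant under isomorphism. -/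
theorem type24 {A : Type u} {B : Type v} [Group A] [Group B] (e : A ≃* B) (D : Set A)
    (h : Cfsg.IsOfTypeM24 A D) : Cfsg.IsOfTypeM24 B (e '' D) := by
  obtain ⟨hZ, d, hd, c, hc, hdc, h23, N, hN, ⟨φ⟩, ⟨ψ⟩⟩ := h
  have h23' : Cfsg.IsOfTypeM23 (Sd D d) (Dq D d) := h23
  let q := quotCongr (subCongr e (map_pair e D d c))
  haveI := hN
  have hN' : (N.map q.toMonoidHom).Normal := hN.map _ q.surjective
  refine ⟨center_bot e hZ, e d, ⟨d, hd, rfl⟩, e c, ⟨c, hc, rfl⟩, fun h => hdc ?_, ?_,
    N.map q.toMonoidHom, hN',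
    ⟨(N.equivMapOfInjective q.toMonoidHom q.injective).symm.trans φ⟩,
    ⟨(QuotientGroup.congr N (N.map q.toMonoidHom) q rfl).symm.trans ψ⟩⟩
  · have := h.map e.symm
    rwa [e.symm_apply_apply, e.symm_apply_apply] at this
  · have := type23 (sdCongr e D d) (Dq D d) h23'
    rw [image_Dq] at this
    exact this

variable {G : Type u} [Group G] [Finite G] {E : Set G}

theorem GIso.comp {H : Type v} [Group H] {F : Set H} {P : Type} {R : P → P → Prop} (e : E ≃ F)
    (he : ∀ a b : E, Commute ((e a : F) : H) (e b) ↔ Commute (a : G) b) (h : GIso F R) : GIso E R := by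
  obtain ⟨φ, hφ⟩ := h
  exact ⟨e.trans φ, fun a b => (he a b).symm.trans (hφ (e a) (e b))⟩

/-- What the image generates has trivial centre and is the whole quotient. -/
theorem Space.exists_quot_quot (h : Space E) :
    ∃ f : Quot (img E) ≃* Quot E, f '' img (img E) = img E := by
  have htop : Subgroup.closure (img E) = ⊤ := h.img_group.2.2
  let a : ↥(Subgroup.closure (img E)) ≃* Quot E := (MulEquiv.subgroupCongr htop).trans Subgroup.topEquiv
  have hb : Subgroup.center ↥(Subgroup.closure (img E)) = ⊥ := by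
    rw [eq_bot_iff]
    intro z hz
    have h1 : a z ∈ Subgroup.center (Quot E) := by
      rw [← GenA.Tower.map_center a]; exact ⟨z, hz, rfl⟩
    rw [h.quot_center, Subgroup.mem_bot] at h1
    rw [Subgroup.mem_bot]
    exact a.injective (h1.trans (map_one a).symm)
  let f : Quot (img E) ≃* Quot E :=
    ((QuotientGroup.quotientMulEquivOfEq hb).trans QuotientGroup.quotientBot).trans a
  refine ⟨f, Set.ext fun y => ⟨?_, fun hy => ?_⟩⟩
  · rintro ⟨_, ⟨x, hx, rfl⟩, rfl⟩
    exact hx
  · exact ⟨_, ⟨⟨y, Subgroup.subset_closure hy⟩, hy, rfl⟩, rfl⟩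

/-- The list passes from the quotient to the space. -/
theorem Space.types_of_img (h : Space E) (ht : Types (img E)) : Types E := by
  obtain ⟨e, he⟩ := h.exists_equiv
  obtain ⟨f, hf⟩ := h.exists_quot_quot
  cases ht with
  | sym n hn g => exact .sym n hn (g.comp e he)
  | sp m hm g => exact .sp m hm (g.comp e he)
  | unit n hn g => exact .unit n hn (g.comp e he)
  | o2p m hm g => exact .o2p m hm (g.comp e he)
  | o2m m hm g => exact .o2m m hm (g.comp e he)
  | o3 n hn Q hQ g => exact .o3 n hn Q hQ (g.comp e he)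
  | m22 g => exact .m22 (hf ▸ type22 f _ g)
  | m23 g => exact .m23 (hf ▸ type23 f _ g)
  | m24 g => exact .m24 (hf ▸ type24 f _ g)

theorem Space.ncard_img (h : Space E) : (img E).ncard = E.ncard := by
  obtain ⟨e, -⟩ := h.exists_equiv
  rw [← Nat.card_coe_set_eq, ← Nat.card_coe_set_eq, Nat.card_congr e]

/-- A space below the bound is on the list. -/
theorem Space.types (h : Space E) {n : ℕ} (hB : Below.{u} n) (hn : E.ncard < n) : Types E :=
  h.types_of_img (hB _ _ h.quot (by rwa [h.ncard_img]))

end Cfsg.Agent.Fischer
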