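import Cfsg.Agent.Lib.Fischer.Local.Count
import Cfsg.Agent.Lib.ThreeTransp.WidthOne

/-!
Fischer's theorem: the commuting components of a common set are spaces, and their number is a
power of three.
-/

set_option autoImplicit false
set_option linter.unusedSectionVars false

namespace Cfsg.Agent.Fischer

open Cfsg.Agent.ThreeTransp
open Cfsg.Agent.ThreeTransp.Factor (nb)
open Cfsg.Agent.ThreeTransp.Cover (conj_nb mem_nb_symm)

universe u

variable {G : Type u} [Group G] [Finite G]

/-- The component of `a` in the commuting graph on `A`. -/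
def comp (A : Set G) (a : G) : Set G :=
  {b | Relation.ReflTransGen (fun p q => p ∈ A ∧ q ∈ A ∧ Commute p q) a b}

section
variable {A : Set G}

theorem mem_comp_self (a : G) : a ∈ comp A a := Relation.ReflTransGen.refl

theorem comp_subset {a : G} (ha : a ∈ A) : comp A a ⊆ A := fun b hb => by
  induction hb with
  | refl => exact ha
  | tail _ h _ => exact h.2.1

theorem comp_closed {a p q : G} (hp : p ∈ comp A a) (hpA : p ∈ A) (hq : q ∈ A) (h : Commute p q) :
    q ∈ comp A a := hp.tail ⟨hpA, hq, h⟩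

theorem comp_symm {a b : G} (h : b ∈ comp A a) : a ∈ comp A b := by
  induction h with
  | refl => exact Relation.ReflTransGen.refl
  | tail _ h ih => exact ih.head ⟨h.2.1, h.1, h.2.2.symm⟩

theorem comp_eq {a b : G} (h : b ∈ comp A a) : comp A b = comp A a :=
  Set.ext fun _ => ⟨fun k => h.trans k, fun k => (comp_symm h).trans k⟩

theorem comp_map (hc : ∀ a ∈ A, ∀ b ∈ A, a * b * a⁻¹ ∈ A) {g : G} (hg : g ∈ Subgroup.closure A) (a : G) :
    MulAut.conj g '' comp A a = comp A (g * a * g⁻¹) := by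
  have key : ∀ k ∈ Subgroup.closure A, ∀ a b, b ∈ comp A a → k * b * k⁻¹ ∈ comp A (k * a * k⁻¹) := by
    intro k hk a b h
    induction h with
    | refl => exact mem_comp_self _
    | @tail p q _ h ih =>
      exact ih.tail ⟨conj_of_mem_closure hc hk _ h.1, conj_of_mem_closure hc hk _ h.2.1,
        Basic.commute_conj.2 h.2.2⟩
  ext y
  constructor
  · rintro ⟨b, hb, rfl⟩
    exact key g hg a b hb
  · intro hy
    refine ⟨g⁻¹ * y * g, ?_, by simp [mul_assoc]⟩
    have := key g⁻¹ (inv_mem hg) _ y hy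
    rwa [inv_inv, show g⁻¹ * (g * a * g⁻¹) * g = a by group] at this

variable (hA : Cfsg.IsThreeTranspositionSet A) (hc : ∀ a ∈ A, ∀ b ∈ A, a * b * a⁻¹ ∈ A)
include hA hc

/-- A component is closed under conjugation by its members. -/
theorem comp_conj {a p q : G} (ha : a ∈ A) (hp : p ∈ comp A a) (hq : q ∈ comp A a) :
    p * q * p⁻¹ ∈ comp A a := by
  have hpA := comp_subset ha hp
  have := (comp_map hc (Subgroup.subset_closure hpA) p).le ⟨q, (comp_eq hp).ge hq, rfl⟩
  rwa [mul_inv_cancel_right, comp_eq hp] at this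

/-- A member fixes a component only if it lies in it. -/
theorem mem_of_comp_fix {a y : G} (ha : a ∈ A) (hy : y ∈ A) (h : comp A (y * a * y⁻¹) = comp A a) :
    y ∈ comp A a := by
  by_cases hya : Commute a y
  · exact comp_closed (mem_comp_self a) ha hy hya
  have hm : y * a * y⁻¹ ∈ comp A a := h ▸ mem_comp_self _
  rw [Basic.inv_eq hA hy, ← Basic.braid hA ha hy hya] at hm
  have := comp_conj hA hc ha (mem_comp_self a) hm
  rwa [Basic.inv_eq hA ha, show a * (a * y * a) * a = (a * a) * y * (a * a) by group,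
    Basic.sq hA ha, one_mul, mul_one] at this

/-- The number of components is a power of three. -/
theorem comps_three_pow (hne : A.Nonempty) : ∃ j : ℕ, (comp A '' A).ncard = 3 ^ j := by
  classical
  haveI : Fact (Nat.Prime 3) := ⟨Nat.prime_three⟩
  let X := ↥(comp A '' A)
  let act : ↥(Subgroup.closure A) → X → X := fun g K => ⟨MulAut.conj (g : G) '' K.1, by
    obtain ⟨a, ha, e⟩ := K.2
    exact ⟨_, conj_of_mem_closure hc g.2 a ha, (comp_map hc g.2 a).symm.trans (by rw [e])⟩⟩
  let ρ : ↥(Subgroup.closure A) →* Equiv.Perm X :=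
  { toFun := fun g => ⟨act g, act g⁻¹, fun K => Subtype.ext (by simp [act, Set.image_image, mul_assoc]),
      fun K => Subtype.ext (by simp [act, Set.image_image, mul_assoc])⟩
    map_one' := Equiv.ext fun K => Subtype.ext (by simp [act])
    map_mul' := fun g k => Equiv.ext fun K => Subtype.ext (by simp [act, Set.image_image, mul_assoc]) }
  let el : ∀ y ∈ A, ↥(Subgroup.closure A) := fun y hy => ⟨y, Subgroup.subset_closure hy⟩
  let pt : ∀ a ∈ A, X := fun a ha => ⟨comp A a, a, ha, rfl⟩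
  have hρ : ∀ (g : ↥(Subgroup.closure A)) a (ha : a ∈ A),
      ρ g (pt a ha) = pt _ (conj_of_mem_closure hc g.2 a ha) := fun g a ha =>
    Subtype.ext (comp_map hc g.2 a)
  have hfix : ∀ y (hy : y ∈ A) a (ha : a ∈ A), ρ (el y hy) (pt a ha) = pt a ha → y ∈ comp A a := by
    intro y hy a ha e
    rw [hρ _ a ha] at e
    exact mem_of_comp_fix hA hc ha hy (congrArg Subtype.val e)
  have hself : ∀ y (hy : y ∈ A), ρ (el y hy) (pt y hy) = pt y hy := fun y hy => by
    rw [hρ _ y hy]; exact Subtype.ext (by show comp A (y * y * y⁻¹) = _; rw [mul_inv_cancel_right])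
  -- members of one component act alike
  have halike : ∀ y (hy : y ∈ A) t (ht : t ∈ A), t ∈ comp A y → ρ (el y hy) = ρ (el t ht) := by
    intro y hy t ht hyt
    induction hyt with
    | refl => rfl
    | @tail p q hp h ih =>
      refine (ih h.1).trans (Equiv.ext fun K => ?_)
      obtain ⟨a, ha, hK⟩ := K.2
      obtain rfl : K = pt a ha := Subtype.ext hK.symm
      rw [hρ _ a ha, hρ _ a ha]
      refine Subtype.ext ?_
      show comp A (p * a * p⁻¹) = comp A (q * a * q⁻¹)
      by_cases hpa : p ∈ comp A a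
      · have hqa := comp_closed hpa h.1 h.2.1 h.2.2
        rw [comp_eq (comp_conj hA hc ha hpa (mem_comp_self a)),
          comp_eq (comp_conj hA hc ha hqa (mem_comp_self a))]
      have n1 : ¬ Commute p a := fun k => hpa (comp_closed (mem_comp_self a) ha h.1 k.symm)
      have n2 : ¬ Commute q a := fun k =>
        hpa (comp_closed (comp_closed (mem_comp_self a) ha h.2.1 k.symm) h.2.1 h.1 h.2.2.symm)
      refine (comp_eq (Relation.ReflTransGen.single
        ⟨hc _ h.1 _ ha, hc _ h.2.1 _ ha, ?_⟩)).symm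
      rw [Basic.inv_eq hA h.1, Basic.inv_eq hA h.2.1, Basic.braid hA h.1 ha n1,
        Basic.braid hA h.2.1 ha n2]
      have := h.2.2.map (MulAut.conj a).toMonoidHom
      simpa [Basic.inv_eq hA ha] using this
  obtain ⟨a, ha⟩ := hne
  by_cases hone : ∀ b ∈ A, b ∈ comp A a
  · refine ⟨0, ?_⟩
    rw [pow_zero, Set.ncard_eq_one]
    exact ⟨comp A a, Set.eq_singleton_iff_unique_mem.2 ⟨⟨a, ha, rfl⟩, by
      rintro _ ⟨b, hb, rfl⟩; exact comp_eq (hone b hb)⟩⟩
  push Not at hone
  obtain ⟨b₀, hb₀, hab₀⟩ := hone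
  let E : Set ρ.range := {e | ∃ y, ∃ hy : y ∈ A, (e : Equiv.Perm X) = ρ (el y hy)}
  have hE : Cfsg.IsThreeTranspositionSet E := by
    constructor
    · rintro e ⟨y, hy, he⟩
      rw [← Subgroup.orderOf_coe, he]
      refine orderOf_eq_prime ?_ fun h1 => ?_
      · rw [pow_two, ← map_mul, show el y hy * el y hy = 1 from
          Subtype.ext (Basic.sq hA hy), map_one]
      · have k1 := hfix y hy a ha (by rw [h1]; rfl)
        have k2 := hfix y hy b₀ hb₀ (by rw [h1]; rfl)
        exact hab₀ (((comp_eq k1).symm.trans (comp_eq k2)) ▸ mem_comp_self b₀)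
    · rintro e ⟨y, hy, he⟩ e' ⟨z, hz, he'⟩
      rcases hA.2 y hy z hz with h | h
      · left
        apply Subtype.ext
        rw [SubgroupClass.coe_pow, Subgroup.coe_mul, he, he', ← map_mul, ← map_pow,
          show (el y hy * el z hz) ^ 2 = 1 from Subtype.ext h, map_one]
        rfl
      · right
        apply Subtype.ext
        rw [SubgroupClass.coe_pow, Subgroup.coe_mul, he, he', ← map_mul, ← map_pow,
          show (el y hy * el z hz) ^ 3 = 1 from Subtype.ext h, map_one]
        rfl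
  have hconj : ∀ g : ρ.range, ∀ e ∈ E, g * e * g⁻¹ ∈ E := by
    rintro ⟨_, g, rfl⟩ e ⟨y, hy, he⟩
    refine ⟨_, conj_of_mem_closure hc g.2 y hy, ?_⟩
    rw [Subgroup.coe_mul, Subgroup.coe_mul, Subgroup.coe_inv, he, ← map_inv, ← map_mul, ← map_mul]
    rfl
  have hw : ∀ e ∈ E, ∀ e' ∈ E, Commute e e' → e = e' := by
    rintro e ⟨y, hy, he⟩ e' ⟨z, hz, he'⟩ k
    have hc' : ρ (el y hy) * ρ (el z hz) = ρ (el z hz) * ρ (el y hy) := by
      rw [← he, ← he']; exact congrArg Subtype.val k.eq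
    have h1 : ρ (el y hy) (ρ (el z hz) (pt y hy)) = ρ (el z hz) (pt y hy) := by
      rw [← Equiv.Perm.mul_apply, hc', Equiv.Perm.mul_apply, hself y hy]
    rw [hρ _ y hy] at h1
    have h2 := hfix y hy _ (conj_of_mem_closure hc (Subgroup.subset_closure hz) y hy) h1
    have h3 : z ∈ comp A y := mem_of_comp_fix hA hc hy hz (comp_eq h2).symm
    exact Subtype.ext (he.trans ((halike y hy z hz h3).trans he'.symm))
  let P := (Cfsg.pCore 3 ρ.range).map ρ.range.subtype
  have hP : IsPGroup 3 P := (Cores.pCore_isPGroup (G := ρ.range) 3).map _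
  have horb : MulAction.orbit P (pt a ha) = Set.univ := by
    refine Set.eq_univ_of_forall fun L => ?_
    obtain ⟨z, hz, hL⟩ := L.2
    obtain rfl : L = pt z hz := Subtype.ext hL.symm
    by_cases hza : z ∈ comp A a
    · rw [show pt z hz = pt a ha from Subtype.ext (comp_eq hza)]
      exact MulAction.mem_orbit_self _
    have hn : ¬ Commute a z := fun k => hza (comp_closed (mem_comp_self a) ha hz k)
    have hw' : a * z * a ∈ A := by
      have := hc a ha z hz
      rwa [Basic.inv_eq hA ha] at this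
    refine ⟨⟨_, _, WidthOne.mul_mem_pCore hE hconj hw
      (a := (⟨ρ (el _ hw'), _, rfl⟩ : ρ.range)) (b := ⟨ρ (el a ha), _, rfl⟩)
      ⟨_, hw', rfl⟩ ⟨_, ha, rfl⟩, rfl⟩, ?_⟩
    show (ρ (el _ hw') * ρ (el a ha)) (pt a ha) = pt z hz
    rw [Equiv.Perm.mul_apply, hself a ha, hρ _ a ha]
    refine Subtype.ext ?_
    show comp A (a * z * a * a * (a * z * a)⁻¹) = comp A z
    congr 1
    have ha2 := Basic.sq hA ha
    have hb := Basic.braid hA ha hz hn
    rw [mul_inv_rev, mul_inv_rev, Basic.inv_eq hA ha, Basic.inv_eq hA hz,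
      show a * z * a * a * (a * (z * a)) = (a * z * a) * (a * a) * (z * a) by group,
      ha2, mul_one, hb, show z * a * z * (z * a) = z * (a * (z * z) * a) by group,
      Basic.sq hA hz, mul_one, ha2, mul_one]
  obtain ⟨j, hj⟩ := hP.card_orbit (pt a ha)
  rw [horb, Nat.card_coe_set_eq, Set.ncard_univ, Nat.card_coe_set_eq] at hj
  exact ⟨j, hj⟩

/-- All components have the same size. -/
theorem comp_ncard_eq {a b : G} (ha : a ∈ A) (hb : b ∈ A) : (comp A a).ncard = (comp A b).ncard := by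
  by_cases h : b ∈ comp A a
  · rw [comp_eq h]
  have hn : ¬ Commute a b := fun k => h (comp_closed (mem_comp_self a) ha hb k)
  have e := comp_map hc (mul_mem (Subgroup.subset_closure ha) (Subgroup.subset_closure hb)) a
  rw [show a * b * a * (a * b)⁻¹ = b by
    rw [mul_inv_rev, Basic.inv_eq hA ha, Basic.inv_eq hA hb, Basic.braid hA ha hb hn]
    simp [mul_assoc, Basic.sq hA hb, ← mul_assoc a a, Basic.sq hA ha, ← mul_assoc b b]] at e
  rw [← e, Set.ncard_image_of_injective _ (MulAut.conj _).injective]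

/-- The size is the number of components times the common size. -/
theorem ncard_eq_comps_mul {a : G} (ha : a ∈ A) : A.ncard = (comp A '' A).ncard * (comp A a).ncard := by
  classical
  rw [Set.ncard_eq_toFinset_card A (Set.toFinite _),
    Set.ncard_eq_toFinset_card (comp A '' A) (Set.toFinite _)]
  refine (Finset.card_eq_sum_card_fiberwise (f := comp A) fun b hb => ?_).trans
    (Finset.sum_const_nat fun K hK => ?_)
  · rw [Finset.mem_coe, Set.Finite.mem_toFinset] at hb ⊢
    exact ⟨b, hb, rfl⟩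
  · rw [Set.Finite.mem_toFinset] at hK
    obtain ⟨b, hb, rfl⟩ := hK
    rw [comp_ncard_eq hA hc ha hb, Set.ncard_eq_toFinset_card (comp A b) (Set.toFinite _)]
    congr 1
    ext y
    simp only [Finset.mem_filter, Set.Finite.mem_toFinset]
    exact ⟨fun h => h.2 ▸ mem_comp_self y, fun h => ⟨comp_subset hb h, comp_eq h⟩⟩

end

/-- What is asked of the common set inside the neighbours of one member. -/
structure LocalOK (L : Set G) : Prop where
  trans : ∀ p ∈ L, ∀ q ∈ L, ∃ g ∈ Subgroup.closure L, g * p * g⁻¹ = q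
  noncomm : ∀ p ∈ L, ∃ q ∈ L, ¬ Commute p q
  wide : ∀ p ∈ L, ∃ q ∈ L, q ≠ p ∧ Commute p q
  nonempty : L.Nonempty
  psep : ∀ p ∈ L, ∀ q ∈ L, nb L p = nb L q → p = q

theorem Space.localOK {L : Set G} (h : Space L) : LocalOK L where
  trans := h.trans
  noncomm := fun p hp => by
    by_contra! k
    exact h.not_central hp k
  wide := fun p hp => by
    obtain ⟨a, ha, b, hb, hab, hc⟩ := h.wide
    obtain ⟨g, hg, rfl⟩ := h.trans a ha p hp
    exact ⟨g * b * g⁻¹, h.conj_closure hg b hb, fun e => hab (conj_injective e).symm,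
      Basic.commute_conj.2 hc⟩
  nonempty := by
    obtain ⟨a, ha, -⟩ := h.wide
    exact ⟨a, ha⟩
  psep := h.psep

variable {D : Set G} {x c : G}

theorem com_conj (hD : Cfsg.IsThreeTranspositionGroup D) :
    ∀ a ∈ com D x c, ∀ b ∈ com D x c, a * b * a⁻¹ ∈ com D x c := by
  intro a ha b hb
  have h1 := conj_nb hD a hb.1
  have h2 := conj_nb hD a hb.2
  rw [RankThree.conj_self_of_commute ha.1.2.2] at h1
  rw [RankThree.conj_self_of_commute ha.2.2.2] at h2
  exact ⟨h1, h2⟩

theorem com_tt (hD : Cfsg.IsThreeTranspositionGroup D) : Cfsg.IsThreeTranspositionSet (com D x c) :=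
  Basic.mono hD.1 fun _ hy => hy.1.1

/-- A component of a common set is a space. -/
theorem comp_space (hD : Cfsg.IsThreeTranspositionGroup D)
    (hL : ∀ a ∈ com D x c, LocalOK (com (nb D a) x c)) {a : G} (ha : a ∈ com D x c) :
    Space (comp (com D x c) a) := by
  set A := com D x c with hAdef
  set C := comp A a with hCdef
  have hCA : C ⊆ A := comp_subset ha
  have hL' : ∀ p ∈ A, LocalOK (A ∩ nb D p) := fun p hp => by rw [hAdef, com_local]; exact hL p hp
  have hnb : ∀ p ∈ C, nb C p = A ∩ nb D p := fun p hp => Set.ext fun y =>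
    ⟨fun hy => ⟨hCA hy.1, (hCA hy.1).1.1, hy.2.1, hy.2.2⟩,
      fun hy => ⟨comp_closed hp (hCA hp) hy.1 hy.2.2.2, hy.2.2.1, hy.2.2.2⟩⟩
  have hsubC : ∀ p ∈ C, A ∩ nb D p ⊆ C := fun p hp y hy => comp_closed hp (hCA hp) hy.1 hy.2.2.2
  refine ⟨Basic.mono (com_tt hD) hCA, fun p hp q hq => comp_conj (com_tt hD) (com_conj hD) ha hp hq,
    ?_, ?_, ?_, ?_, ?_⟩
  · have step : ∀ p ∈ C, ∀ q ∈ C, Commute p q → ∃ g ∈ Subgroup.closure C, g * p * g⁻¹ = q := by
      intro p hp q hq hpq
      by_cases e : p = q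
      · exact ⟨1, one_mem _, by simp [e]⟩
      obtain ⟨r, hr, hrq, hqr⟩ := (hL' p (hCA hp)).wide q ⟨hCA hq, (hCA hq).1.1, Ne.symm e, hpq⟩
      have hrC := hsubC p hp hr
      obtain ⟨g, hg, hgpq⟩ := (hL' r hr.1).trans p ⟨hCA hp, (hCA hp).1.1, Ne.symm hr.2.2.1, hr.2.2.2.symm⟩
        q ⟨hCA hq, (hCA hq).1.1, Ne.symm hrq, hqr.symm⟩
      exact ⟨g, Subgroup.closure_mono (hsubC r hrC) hg, hgpq⟩
    have all : ∀ q ∈ C, ∃ g ∈ Subgroup.closure C, g * a * g⁻¹ = q := by
      intro q hq
      induction hq with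
      | refl => exact ⟨1, one_mem _, by simp⟩
      | @tail r s hr h ih =>
        obtain ⟨g, hg, e⟩ := ih
        obtain ⟨k, hk, e'⟩ := step r hr s (comp_closed hr h.1 h.2.1 h.2.2) h.2.2
        exact ⟨k * g, mul_mem hk hg, by rw [← e', ← e]; group⟩
    intro p hp q hq
    obtain ⟨g, hg, e⟩ := all p hp
    obtain ⟨k, hk, e'⟩ := all q hq
    exact ⟨k * g⁻¹, mul_mem hk (inv_mem hg), by rw [← e', ← e]; group⟩
  · obtain ⟨b, hb⟩ := (hL' a ha).nonempty
    exact ⟨a, mem_comp_self a, b, hsubC a (mem_comp_self a) hb, Ne.symm hb.2.2.1, hb.2.2.2⟩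
  · haveI : Nonempty C := ⟨⟨a, mem_comp_self a⟩⟩
    have all : ∀ q, ∀ hq : q ∈ C, (Cfsg.commutingGraph C).Reachable ⟨a, mem_comp_self a⟩ ⟨q, hq⟩ := by
      intro q hq
      induction hq with
      | refl => exact SimpleGraph.Reachable.refl _
      | @tail r s hr h ih =>
        refine ih.trans ?_
        by_cases e : r = s
        · subst e; exact SimpleGraph.Reachable.refl _
        · refine SimpleGraph.Adj.reachable ?_
          simp only [Cfsg.commutingGraph, SimpleGraph.fromRel_adj]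
          exact ⟨fun k => e (congrArg Subtype.val k), Or.inl h.2.2⟩
    exact ⟨fun p q => (all p p.2).symm.trans (all q q.2)⟩
  · intro p hp q hq k
    by_contra hpq
    have hq' : q ∈ A ∩ nb D p := ⟨hCA hq, (hCA hq).1.1, Ne.symm hpq, (k q hq).2 (Commute.refl q)⟩
    obtain ⟨r, hr, hqr⟩ := (hL' p (hCA hp)).noncomm q hq'
    exact hqr ((k r (hsubC p hp hr)).1 hr.2.2.2)
  · intro p hp q hq k
    obtain ⟨b, hb⟩ := (hL' p (hCA hp)).nonempty
    have hbC := hsubC p hp hb
    have hbq : b ∈ nb C q := k ▸ ((hnb p hp).ge hb)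
    rw [hnb q hq] at hbq
    refine (hL' b hb.1).psep p ⟨hCA hp, mem_nb_symm (hCA hp).1.1 hb.2⟩ q
      ⟨hCA hq, mem_nb_symm (hCA hq).1.1 hbq.2⟩ (Set.ext fun y => ?_)
    constructor <;> intro hy
    · have : y ∈ nb C q := k ▸ ((hnb p hp).ge ⟨hy.1.1, hy.1.2.1, hy.2.1, hy.2.2⟩)
      exact ⟨hy.1, this.2⟩
    · have : y ∈ nb C p := k.symm ▸ ((hnb q hq).ge ⟨hy.1.1, hy.1.2.1, hy.2.1, hy.2.2⟩)
      exact ⟨hy.1, this.2⟩

end Cfsg.Agent.Fischer
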