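import Cfsg.Agent.Lib.Fischer.Local.Nb
import Cfsg.Agent.GenA.Tower.Count

/-!
Fischer's theorem: the parameters of the commuting graph.
-/

set_option autoImplicit false
set_option linter.unusedSectionVars false

namespace Cfsg.Agent.Fischer

open Cfsg.Agent.ThreeTransp
open Cfsg.Agent.ThreeTransp.Factor (nb Hd)
open Cfsg.Agent.ThreeTransp.Cover (conj_nb mem_nb_symm)
open Cfsg.Agent.GenA.Tower (far)

universe u

variable {G : Type u} [Group G] [Finite G] {D : Set G}

theorem nb_nb (D : Set G) (x a : G) : nb (nb D x) a = nb D x ∩ nb D a :=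
  Set.ext fun _ => ⟨fun h => ⟨h.1, h.1.1, h.2.1, h.2.2⟩, fun h => ⟨h.1, h.2.2.1, h.2.2.2⟩⟩

/-- The common set of `x` and `c` seen from one of its members. -/
theorem com_local (D : Set G) (x c a : G) : com D x c ∩ nb D a = com (nb D a) x c := by
  simp only [com, nb_nb]
  ext y
  simp only [Set.mem_inter_iff]
  tauto

variable (h : Std D)
include h

theorem Std.com_nonempty {a c : G} (ha : a ∈ D) (hc : c ∈ D) (hac : ¬ Commute a c) :
    (com D a c).Nonempty := GenA.Tower.pair_nonempty h.grp h.prim h.wide ha hc hac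

theorem Std.com_const {a c a' c' : G} (ha : a ∈ D) (hc : c ∈ D) (hac : ¬ Commute a c) (ha' : a' ∈ D)
    (hc' : c' ∈ D) (hac' : ¬ Commute a' c') : (com D a c).ncard = (com D a' c').ncard :=
  GenA.Tower.pair_const h.grp h.prim h.wide ha hc hac ha' hc' hac'

theorem Std.nb_const {a b : G} (ha : a ∈ D) (hb : b ∈ D) : (nb D a).ncard = (nb D b).ncard := by
  obtain ⟨g, rfl⟩ := h.prim.1 a ha b hb
  refine (Set.ncard_congr (fun y _ => g * y * g⁻¹) (fun y hy => conj_nb h.grp g hy)
    (fun y z _ _ e => conj_injective e) fun y hy => ⟨g⁻¹ * y * g, ?_, by group⟩)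
  have := conj_nb h.grp g⁻¹ hy
  rwa [inv_inv, show g⁻¹ * (g * a * g⁻¹) * g = a by group] at this

theorem Std.inner_const {a x a' x' : G} (ha : a ∈ D) (hx : x ∈ nb D a) (ha' : a' ∈ D)
    (hx' : x' ∈ nb D a') : (nb D a ∩ nb D x).ncard = (nb D a' ∩ nb D x').ncard := by
  obtain ⟨g, rfl⟩ := h.prim.1 a ha a' ha'
  have hgx : g * x * g⁻¹ ∈ nb D (g * a * g⁻¹) := conj_nb h.grp g hx
  obtain ⟨g', hg', rfl⟩ := h.nb_trans ha' _ hgx _ hx'
  have hfix : g' * (g * a * g⁻¹) * g'⁻¹ = g * a * g⁻¹ :=
    RankThree.conj_self_of_commute (Factor.Hd_commute hg')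
  rw [show g' * (g * x * g⁻¹) * g'⁻¹ = g' * g * x * (g' * g)⁻¹ by group, ← hfix,
    show g' * (g * a * g⁻¹) * g'⁻¹ = g' * g * a * (g' * g)⁻¹ by group,
    ← GenA.Tower.conj_pair h.grp, Set.ncard_image_of_injective _ fun p q e => conj_injective e]

variable {x : G} (hx : x ∈ D)
include hx

/-- Two counts of the paths of length two from `x` to the members not commuting with it. -/
theorem Std.count {y c : G} (hy : y ∈ nb D x) (hc : c ∈ D) (hxc : ¬ Commute x c) :
    (D.ncard - 1 - (nb D x).ncard) * (com D x c).ncard =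
      (nb D x).ncard * ((nb D x).ncard - 1 - (com D x y).ncard) := by
  rw [GenA.Tower.ncard_D h.grp hx, show ∀ k f : ℕ, 1 + k + f - 1 - k = f by omega]
  exact GenA.Tower.far_mul h.grp h.prim h.wide (fun a ha => h.nb_const ha hx)
    (fun a ha z hz => h.inner_const ha hz hx hy) hx hc hxc

/-- Every common set with `x` comes from at least two members. -/
theorem Std.images_bound : 2 * ((com D x) '' far D x).ncard ≤ D.ncard - 1 - (nb D x).ncard := by
  classical
  rw [GenA.Tower.ncard_D h.grp hx, show ∀ k f : ℕ, 1 + k + f - 1 - k = f by omega,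
    Set.ncard_eq_toFinset_card (com D x '' far D x) (Set.toFinite _),
    Set.ncard_eq_toFinset_card (far D x) (Set.toFinite _)]
  refine Finset.mul_card_image_le_card_of_maps_to (f := com D x)
    (fun f hf => by
      rw [Set.Finite.mem_toFinset] at hf ⊢
      exact Set.mem_image_of_mem _ hf) 2 fun S hS => ?_
  rw [Set.Finite.mem_toFinset] at hS
  obtain ⟨f, ⟨hfD, hxf⟩, rfl⟩ := hS
  refine le_of_eq_of_le (Finset.card_pair (a := f) (b := x * f * x) fun e => hxf ?_).symm
    (Finset.card_le_card fun g hg => ?_)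
  · have : x * f = f * x := by
      conv_rhs => rw [e, mul_assoc, Classes.sq h.grp hx, mul_one]
    exact this
  rw [Finset.mem_filter, Set.Finite.mem_toFinset]
  rw [Finset.mem_insert, Finset.mem_singleton] at hg
  rcases hg with rfl | rfl
  · exact ⟨⟨hfD, hxf⟩, rfl⟩
  have hfx : ¬ Commute x (x * f * x) := fun k => hxf (by
    have := k.map (MulAut.conj x).toMonoidHom
    simpa [mul_assoc, Classes.inv h.grp hx, Classes.sq h.grp hx, ← mul_assoc x x] using this)
  refine ⟨⟨Classes.conj_mem h.grp hx hfD, hfx⟩, Set.ext fun t => ?_⟩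
  have ht : ∀ t ∈ nb D x, x * t * x⁻¹ = t := fun t ht => RankThree.conj_self_of_commute ht.2.2.symm
  have hxf' : x * f * x = x * f * x⁻¹ := by rw [Classes.inv h.grp hx]
  constructor
  · rintro ⟨h1, h2⟩
    rw [hxf'] at h2
    have := conj_nb h.grp x h2
    rw [ht t h1, show x * (x * f * x⁻¹) * x⁻¹ = (x * x) * f * (x * x)⁻¹ by group,
      Classes.sq h.grp hx] at this
    exact ⟨h1, by simpa using this⟩
  · rintro ⟨h1, h2⟩
    have := conj_nb h.grp x h2
    rw [ht t h1, ← hxf'] at this
    exact ⟨h1, this⟩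

end Cfsg.Agent.Fischer
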