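import Cfsg.Agent.Lib.Fischer.Local.Space

/-!
Fischer's theorem: the members commuting with one member form a space when the cores of what they
generate are central.
-/

set_option autoImplicit false
set_option linter.unusedSectionVars false

namespace Cfsg.Agent.Fischer

open Cfsg.Agent.ThreeTransp
open Cfsg.Agent.ThreeTransp.Factor (nb Hd mem_Hd Hd_commute)
open Cfsg.Agent.ThreeTransp.RankThree (loc mem_loc)
open Cfsg.Agent.ThreeTransp.Cover (conj_nb mem_nb_symm)

universe u

variable {G : Type u} [Group G] [Finite G] {D : Set G} (h : Std D) {x : G} (hx : x ∈ D)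
include h

theorem Std.exists_noncomm {a : G} (ha : a ∈ D) : ∃ e ∈ D, ¬ Commute a e :=
  Classes.exists_noncomm h.grp h.prim.1 h.prim.2.1 ha

include hx

theorem Std.nb_nonempty : (nb D x).Nonempty := by
  obtain ⟨a, ha, b, hb, hab, hc⟩ := h.wide
  obtain ⟨g, rfl⟩ := h.prim.1 a ha x hx
  exact ⟨g * b * g⁻¹, h.grp.2.1 g b hb, fun e => hab (conj_injective e).symm, hc.map (MulAut.conj g).toMonoidHom⟩

theorem Std.nb_tt : Cfsg.IsThreeTranspositionSet (nb D x) := Basic.mono h.grp.1 fun _ hy => hy.1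

theorem Std.nb_conj : ∀ a ∈ nb D x, ∀ b ∈ nb D x, a * b * a⁻¹ ∈ nb D x := fun a ha b hb => by
  have := conj_nb h.grp a hb
  rwa [RankThree.conj_self_of_commute ha.2.2] at this

/-- The members commuting with `x` are linked inside what they generate. -/
theorem Std.nb_trans : ∀ a ∈ nb D x, ∀ b ∈ nb D x, ∃ g ∈ Hd D x, g * a * g⁻¹ = b := by
  intro a ha b hb
  have z2 : Cfsg.pCore 2 G ≤ Subgroup.center G := by rw [h.cores.1]; exact bot_le
  obtain ⟨g, hg, e⟩ := RankThree.linked_inner h.grp h.prim h.wide z2 hx ha.1 hb.1 ha.2.2 hb.2.2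
    ha.2.1 hb.2.1
  have key : ∀ k ∈ loc D x, k ∈ Hd D x ∨ k * x ∈ Hd D x := by
    intro k hk
    have hx2 := Classes.sq h.grp hx
    have hk' : k ∈ Submonoid.closure {y : G | y ∈ D ∧ Commute x y} := by
      rw [← Subgroup.closure_toSubmonoid_of_finite]; exact hk
    induction hk' using Submonoid.closure_induction with
    | mem y hy =>
      by_cases hyx : y = x
      · exact Or.inr (by rw [hyx, hx2]; exact one_mem _)
      · exact Or.inl (mem_Hd ⟨hy.1, hyx, hy.2⟩)
    | one => exact Or.inl (one_mem _)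
    | mul p q hp hq ihp ihq =>
      have hp' := Subgroup.le_closure_toSubmonoid {y : G | y ∈ D ∧ Commute x y} hp
      have hq' := Subgroup.le_closure_toSubmonoid {y : G | y ∈ D ∧ Commute x y} hq
      have hqx : Commute x q := RankThree.loc_commute hq'
      rcases ihp hp' with h1 | h1 <;> rcases ihq hq' with h2 | h2
      · exact Or.inl (mul_mem h1 h2)
      · exact Or.inr (by rw [mul_assoc]; exact mul_mem h1 h2)
      · exact Or.inr (by
          rw [mul_assoc, ← hqx.eq, ← mul_assoc]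
          exact mul_mem h1 h2)
      · refine Or.inl ?_
        have := mul_mem h1 h2
        rwa [show p * x * (q * x) = p * q by
          rw [mul_assoc, ← mul_assoc x q x, hqx.eq, mul_assoc q x x, hx2, mul_one]] at this
  rcases key g hg with h1 | h1
  · exact ⟨g, h1, e⟩
  · refine ⟨g * x, h1, ?_⟩
    rw [show g * x * a * (g * x)⁻¹ = g * (x * a * x⁻¹) * g⁻¹ by group,
      RankThree.conj_self_of_commute ha.2.2.symm, e]

/-- Two members commuting with `x` do not commute. -/
theorem Std.nb_noncomm : ∀ a ∈ nb D x, ∃ b ∈ nb D x, ¬ Commute a b := by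
  intro a ha
  by_contra! hall
  -- then `nb x` is a clique, so the class is
  have hcl : ∀ p ∈ nb D x, ∀ q ∈ nb D x, Commute p q := by
    intro p hp q hq
    obtain ⟨g, hg, rfl⟩ := h.nb_trans hx a ha p hp
    have := hall _ (conj_of_mem_closure (h.nb_conj hx) (inv_mem hg) q hq)
    have e := this.map (MulAut.conj g).toMonoidHom
    simpa [mul_assoc] using e
  let K : Set G := insert x (nb D x)
  have hK : ∀ p ∈ K, ∀ q ∈ D, Commute p q → q ∈ K := by
    intro p hp q hq hc
    rcases hp with rfl | hp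
    · by_cases hqp : q = p
      · exact Or.inl hqp
      · exact Or.inr ⟨hq, hqp, hc⟩
    -- the neighbours of `p` are a clique through `x`
    by_cases hqx : q = x
    · exact Or.inl hqx
    by_cases hqp : q = p
    · exact Or.inr (hqp ▸ hp)
    obtain ⟨g, hg⟩ := h.prim.1 x hx p hp.1
    have hin : ∀ r ∈ nb D p, g⁻¹ * r * g ∈ nb D x := fun r hr => by
      have := conj_nb h.grp g⁻¹ hr
      rwa [inv_inv, ← hg, show g⁻¹ * (g * x * g⁻¹) * g = x by group] at this
    have e := (hcl _ (hin q ⟨hq, hqp, hc⟩) _ (hin x (mem_nb_symm hx hp))).map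
      (MulAut.conj g).toMonoidHom
    have : Commute q x := by simpa [mul_assoc] using e
    exact Or.inr ⟨hq, hqx, this.symm⟩
  have hD : ∀ q ∈ D, q ∈ K := fun q hq => by
    obtain ⟨w⟩ := (Primitive.connected h.grp h.prim h.wide).preconnected ⟨x, hx⟩ ⟨q, hq⟩
    suffices k : ∀ u v : D, (Cfsg.commutingGraph D).Walk u v → (u : G) ∈ K → (v : G) ∈ K from
      k _ _ w (Or.inl rfl)
    intro u v w
    induction w with
    | nil => exact id
    | @cons u v z huv p ih =>
      intro hu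
      simp only [Cfsg.commutingGraph, SimpleGraph.fromRel_adj] at huv
      exact ih (hK _ hu _ v.2 (huv.2.elim id fun k => k.symm))
  obtain ⟨e, he, hxe⟩ := h.exists_noncomm hx
  rcases hD e he with rfl | he'
  · exact hxe (Commute.refl _)
  · exact hxe he'.2.2

/-- With central cores the members commuting with `x` form a space. -/
theorem Std.space_nb (h2 : Cfsg.pCore 2 ↥(Hd D x) ≤ Subgroup.center ↥(Hd D x))
    (h3 : Cfsg.pCore 3 ↥(Hd D x) ≤ Subgroup.center ↥(Hd D x)) : Space (nb D x) := by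
  classical
  set N : Set ↥(Hd D x) := {y | (y : G) ∈ nb D x}
  have hN : Cfsg.IsThreeTranspositionGroup N := by
    refine ⟨⟨fun d hd => ?_, fun d hd e he => ?_⟩, fun g d hd => ?_, Subgroup.closure_closure_coe_preimage⟩
    · rw [← Subgroup.orderOf_coe]; exact (h.nb_tt hx).1 _ hd
    · exact ((h.nb_tt hx).2 _ hd _ he).imp (fun k => Subtype.ext k) fun k => Subtype.ext k
    · exact conj_of_mem_closure (h.nb_conj hx) g.2 _ hd
  have hc : ∀ a b : ↥(Hd D x), Commute a b ↔ Commute (a : G) (b : G) := fun a b =>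
    ⟨fun k => congrArg Subtype.val k, fun k => Subtype.ext k⟩
  let up : ∀ a ∈ nb D x, ↥(Hd D x) := fun a ha => ⟨a, mem_Hd ha⟩
  have sep : ∀ a ∈ nb D x, ∀ b ∈ nb D x, (∀ e ∈ nb D x, Commute a e ↔ Commute b e) → a = b := by
    intro a ha b hb k
    obtain ⟨e, he, hae⟩ := h.nb_noncomm hx a ha
    obtain ⟨g, hg, heq⟩ := Classes.sameComm_exists_conj hN (d := up a ha) (v := up b hb) ha
      ⟨hb, fun y hy => by rw [hc, hc]; exact (k _ hy).symm⟩ ⟨up e he, he, fun k' => hae ((hc _ _).1 k')⟩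
    rw [← Subgroup.mem_center_iff.1 (h2 hg) (up a ha), mul_inv_cancel_right] at heq
    exact congrArg Subtype.val heq
  have psep : ∀ a ∈ nb D x, ∀ b ∈ nb D x, nb (nb D x) a = nb (nb D x) b → a = b := by
    intro a ha b hb k
    have hp : Classes.SamePunct N (up a ha) (up b hb) := ⟨hb, fun y hy => by
      constructor
      · rintro ⟨hne, hcy⟩
        have hy' : (y : G) ∈ nb (nb D x) a := ⟨hy, fun e => hne (Subtype.ext e), (hc _ _).1 hcy⟩
        rw [k] at hy'
        exact ⟨fun e => hy'.2.1 (congrArg Subtype.val e), (hc _ _).2 hy'.2.2⟩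
      · rintro ⟨hne, hcy⟩
        have hy' : (y : G) ∈ nb (nb D x) b := ⟨hy, fun e => hne (Subtype.ext e), (hc _ _).1 hcy⟩
        rw [← k] at hy'
        exact ⟨fun e => hy'.2.1 (congrArg Subtype.val e), (hc _ _).2 hy'.2.2⟩⟩
    obtain ⟨g, hg, heq⟩ := Classes.samePunct_exists_conj hN (d := up a ha) ha hp
    rw [← Subgroup.mem_center_iff.1 (h3 hg) (up a ha), mul_inv_cancel_right] at heq
    exact congrArg Subtype.val heq
  -- a commuting pair
  have hwide : ∃ a ∈ nb D x, ∃ b ∈ nb D x, a ≠ b ∧ Commute a b := by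
    by_contra! hno
    obtain ⟨a, ha⟩ := h.nb_nonempty hx
    obtain ⟨b, hb, hab⟩ := h.nb_noncomm hx a ha
    refine hab ((psep a ha b hb (Set.ext fun y => ⟨fun hy => ?_, fun hy => ?_⟩)) ▸ Commute.refl a)
    · exact absurd hy.2.2 (hno a ha y hy.1 hy.2.1.symm)
    · exact absurd hy.2.2 (hno b hb y hy.1 hy.2.1.symm)
  refine ⟨h.nb_tt hx, h.nb_conj hx, h.nb_trans hx, hwide, ?_, sep, psep⟩
  -- connectedness
  by_contra hdisc
  obtain ⟨a₀, ha₀, b₀, hb₀, hne₀, hc₀⟩ := hwide
  haveI : Nonempty (nb D x) := ⟨⟨a₀, ha₀⟩⟩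
  rw [SimpleGraph.connected_iff] at hdisc
  push Not at hdisc
  obtain ⟨⟨y, hy⟩, ⟨z, hz⟩, hyz⟩ : ∃ y z : nb D x, ¬ (Cfsg.commutingGraph (nb D x)).Reachable y z := by
    by_contra! k
    exact not_isEmpty_of_nonempty _ (hdisc k)
  have adj : ∀ (p q : nb D x), Commute (p : G) (q : G) → (Cfsg.commutingGraph (nb D x)).Reachable p q := by
    intro p q hc
    by_cases hpq : p = q
    · exact hpq ▸ SimpleGraph.Reachable.refl _
    · refine SimpleGraph.Adj.reachable ?_
      simp only [Cfsg.commutingGraph, SimpleGraph.fromRel_adj]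
      exact ⟨hpq, Or.inl hc⟩
  have hyz' : ¬ Commute y z := fun k => hyz (adj ⟨y, hy⟩ ⟨z, hz⟩ k)
  -- in one common set no two members commute
  have hxi : ∀ t ∈ com D y z, Commute x t → t = x := fun t ht hxt => by
    by_contra htx
    have ht' : t ∈ nb D x := ⟨ht.1.1, htx, hxt⟩
    exact hyz ((adj ⟨y, hy⟩ ⟨t, ht'⟩ ht.1.2.2).trans (adj ⟨t, ht'⟩ ⟨z, hz⟩ ht.2.2.2.symm))
  have hxcom : x ∈ com D y z := ⟨mem_nb_symm hx hy, mem_nb_symm hx hz⟩
  have hed : ∀ w ∈ com D y z, ∀ t ∈ com D y z, Commute w t → t = w := by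
    intro w hw t ht hwt
    by_cases hwx : w = x
    · subst hwx; exact hxi t ht hwt
    have hxw : ¬ Commute x w := fun k => hwx (hxi w hw k)
    have hmv : x * w * x * (x * w)⁻¹ = w := by
      rw [mul_inv_rev, Classes.inv h.grp hx, Classes.inv h.grp hw.1.1]
      calc x * w * x * (w * x) = x * (w * x * w) * x := by simp [mul_assoc]
        _ = x * (x * w * x) * x := by rw [Basic.braid h.grp.1 hx hw.1.1 hxw]
        _ = (x * x) * w * (x * x) := by simp [mul_assoc]
        _ = w := by simp [Classes.sq h.grp hx]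
    have hfix : ∀ r, r = y ∨ r = z → Commute (x * w) r := by
      rintro r (rfl | rfl)
      · exact hy.2.2.mul_left hw.1.2.2.symm
      · exact hz.2.2.mul_left hw.2.2.2.symm
    have hty : ∀ r, r = y ∨ r = z → (x * w)⁻¹ * r * (x * w) = r := fun r hr => by
      rw [mul_assoc, ← (hfix r hr).eq, inv_mul_cancel_left]
    obtain ⟨t', ht'⟩ : ∃ t', t' = (x * w)⁻¹ * t * (x * w) := ⟨_, rfl⟩
    have hmem : t' ∈ com D y z := by
      have h1 := conj_nb h.grp (x * w)⁻¹ ht.1
      have h2 := conj_nb h.grp (x * w)⁻¹ ht.2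
      rw [inv_inv, hty y (Or.inl rfl)] at h1
      rw [inv_inv, hty z (Or.inr rfl)] at h2
      rw [ht']
      exact ⟨h1, h2⟩
    have hct : Commute x t' := by
      have := hwt.map (MulAut.conj (x * w)⁻¹).toMonoidHom
      rw [ht']
      simp only [MulEquiv.coe_toMonoidHom, MulAut.conj_apply, inv_inv] at this
      rwa [show (x * w)⁻¹ * w * (x * w) = x by
        conv_lhs => arg 1; arg 2; rw [← hmv]
        group] at this
    have h3 : t' = x := hxi t' hmem hct
    rw [ht'] at h3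
    calc t = x * w * ((x * w)⁻¹ * t * (x * w)) * (x * w)⁻¹ := by group
      _ = w := by rw [h3, hmv]
  -- hence in every common set
  have hall : ∀ p ∈ D, ∀ q ∈ D, ¬ Commute p q → ∀ w ∈ com D p q, ∀ t ∈ com D p q, Commute w t → t = w := by
    intro p hp q hq hpq w hw t ht hwt
    obtain ⟨g₁, hg₁⟩ := h.prim.1 y hy.1 p hp
    have hq₁ : ¬ Commute p (g₁ * z * g₁⁻¹) := fun k => hyz' (by
      rw [← hg₁] at k
      exact Basic.commute_conj.1 k)
    obtain ⟨g₂, hg₂, hg₂q⟩ := RankThree.linked_outer h.grp h.prim h.wide hp (h.grp.2.1 g₁ z hz.1) hq hq₁ hpq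
    have hg₂p : g₂ * p * g₂⁻¹ = p := RankThree.conj_self_of_commute (RankThree.loc_commute hg₂)
    obtain ⟨g, hg⟩ : ∃ g, g = g₂ * g₁ := ⟨_, rfl⟩
    have hyp : g * y * g⁻¹ = p := by
      rw [hg, show g₂ * g₁ * y * (g₂ * g₁)⁻¹ = g₂ * (g₁ * y * g₁⁻¹) * g₂⁻¹ by group, hg₁, hg₂p]
    have hzq : g * z * g⁻¹ = q := by
      rw [hg, ← hg₂q]; group
    have back : ∀ r ∈ com D p q, g⁻¹ * r * g ∈ com D y z := fun r hr => by
      have h1 := conj_nb h.grp g⁻¹ hr.1
      have h2 := conj_nb h.grp g⁻¹ hr.2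
      rw [inv_inv, ← hyp, show g⁻¹ * (g * y * g⁻¹) * g = y by group] at h1
      rw [inv_inv, ← hzq, show g⁻¹ * (g * z * g⁻¹) * g = z by group] at h2
      exact ⟨h1, h2⟩
    have hc := hwt.map (MulAut.conj g⁻¹).toMonoidHom
    simp only [MulEquiv.coe_toMonoidHom, MulAut.conj_apply, inv_inv] at hc
    exact mul_left_cancel (mul_right_cancel (hed _ (back w hw) _ (back t ht) hc))
  -- so commuting is transitive among the neighbours
  have htrans : ∀ a ∈ nb D x, ∀ b ∈ nb D x, ∀ e ∈ nb D x, a ≠ b → Commute a b → Commute b e →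
      Commute a e := by
    intro a ha b hb e he hab h1 h2
    by_contra hae
    have hbe : e ≠ b := fun k => hae (k ▸ h1)
    exact hb.2.1 (hall a ha.1 e he.1 hae x ⟨mem_nb_symm hx ha, mem_nb_symm hx he⟩ b
      ⟨⟨hb.1, hab.symm, h1⟩, ⟨hb.1, hbe.symm, h2.symm⟩⟩ hb.2.2)
  exact hne₀ (sep a₀ ha₀ b₀ hb₀ fun e he => ⟨fun k => htrans b₀ hb₀ a₀ ha₀ e he hne₀.symm hc₀.symm k,
    fun k => htrans a₀ ha₀ b₀ hb₀ e he hne₀ hc₀ k⟩)

end Cfsg.Agent.Fischer
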