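import Cfsg.Agent.Lib.Fischer.Defs
import Cfsg.Agent.Lib.ThreeTransp.Primitive
import Cfsg.Agent.Lib.ThreeTransp.RankThree
import Cfsg.Agent.S5361

/-!
Fischer's theorem: a space gives a centreless primitive group modulo the centre.
-/

set_option autoImplicit false
set_option linter.unusedSectionVars false

namespace Cfsg.Agent.Fischer

open Cfsg.Agent.ThreeTransp
open Cfsg.Agent.ThreeTransp.Factor (nb)

universe u

variable {G : Type u} [Group G] [Finite G] {D E : Set G}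

theorem conj_of_mem_closure (hc : ∀ a ∈ E, ∀ b ∈ E, a * b * a⁻¹ ∈ E) {g : G} (hg : g ∈ Subgroup.closure E) :
    ∀ b ∈ E, g * b * g⁻¹ ∈ E := by
  have hg' : g ∈ Submonoid.closure E := by
    rw [← Subgroup.closure_toSubmonoid_of_finite]; exact hg
  induction hg' using Submonoid.closure_induction with
  | mem a ha => exact hc a ha
  | one => intro b hb; simpa using hb
  | mul p q hp hq ihp ihq =>
    intro b hb
    have hp' := Subgroup.le_closure_toSubmonoid E hp
    have hq' := Subgroup.le_closure_toSubmonoid E hq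
    rw [show p * q * b * (p * q)⁻¹ = p * (q * b * q⁻¹) * p⁻¹ by group]
    exact ihp hp' _ (ihq hq' b hb)

theorem mk_class (hD : Cfsg.IsThreeTranspositionGroup D) (htr : ∀ a ∈ D, ∀ b ∈ D, ∃ g : G, g * a * g⁻¹ = b)
    (hne : D.Nonempty) : Cfsg.IsThreeTranspositionClass D := by
  obtain ⟨d, hd⟩ := hne
  refine ⟨hD.1, ⟨d, hd, Set.ext fun x => ⟨fun hx => isConj_iff.2 (htr d hd x hx), fun hx => ?_⟩⟩, hD.2.2⟩
  obtain ⟨g, rfl⟩ := isConj_iff.1 hx
  exact hD.2.1 g d hd

/-- Without twins both cores are central. -/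
theorem cores_le_center (hD : Cfsg.IsThreeTranspositionGroup D)
    (sep : ∀ a ∈ D, ∀ b ∈ D, (∀ e ∈ D, Commute a e ↔ Commute b e) → a = b)
    (psep : ∀ a ∈ D, ∀ b ∈ D, nb D a = nb D b → a = b) :
    Cfsg.pCore 2 G ≤ Subgroup.center G ∧ Cfsg.pCore 3 G ≤ Subgroup.center G := by
  haveI : (Cfsg.pCore 2 G).Normal := Cores.pCore_normal 2
  haveI : (Cfsg.pCore 3 G).Normal := Cores.pCore_normal 3
  constructor <;> refine Structure.le_center_of_fix hD fun q hq d hd => ?_
  · refine sep _ (hD.2.1 q d hd) _ hd ?_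
    exact ((Classes.sameComm_iff_mem hD hd).2
      ⟨hD.2.1 q d hd, Classes.inv_mul_conj_mem hD _ hq⟩).2
  · refine (psep d hd _ (hD.2.1 q d hd) (Set.ext fun y => ?_)).symm
    have h := ((Classes.samePunct_iff_mem hD hd).2
      ⟨hD.2.1 q d hd, Classes.inv_mul_conj_mem hD _ hq⟩).2 y
    exact ⟨fun hy => ⟨hy.1, ((h hy.1).1 ⟨hy.2.1, hy.2.2⟩).1, ((h hy.1).1 ⟨hy.2.1, hy.2.2⟩).2⟩,
      fun hy => ⟨hy.1, ((h hy.1).2 ⟨hy.2.1, hy.2.2⟩).1, ((h hy.1).2 ⟨hy.2.1, hy.2.2⟩).2⟩⟩

namespace Std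

theorem trans (h : Std D) : ∀ a ∈ D, ∀ b ∈ D, ∃ g : G, g * a * g⁻¹ = b := h.prim.1

theorem cores (h : Std D) : Cfsg.pCore 2 G = ⊥ ∧ Cfsg.pCore 3 G = ⊥ := by
  obtain ⟨z2, z3⟩ := Primitive.cores_central h.grp h.prim h.wide
  rw [h.cent, le_bot_iff] at z2 z3
  exact ⟨z2, z3⟩

theorem sep (h : Std D) : ∀ a ∈ D, ∀ b ∈ D, (∀ e ∈ D, Commute a e ↔ Commute b e) → a = b := fun a ha b hb he => by
  have := ((Classes.sameComm_iff_mem h.grp ha).1 ⟨hb, fun e he' => (he e he').symm⟩).2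
  rw [h.cores.1, Subgroup.mem_bot, inv_mul_eq_one] at this
  exact this

theorem psep (h : Std D) : ∀ a ∈ D, ∀ b ∈ D, nb D a = nb D b → a = b := fun a ha b hb he => by
  have := ((Classes.samePunct_iff_mem h.grp ha).1 ⟨hb, fun y hy =>
    ⟨fun hy' => ((he ▸ ⟨hy, hy'.1, hy'.2⟩ : y ∈ nb D b)).2, fun hy' =>
      ((he ▸ ⟨hy, hy'.1, hy'.2⟩ : y ∈ nb D a)).2⟩⟩).2
  rw [h.cores.2, Subgroup.mem_bot, inv_mul_eq_one] at this
  exact this

theorem space (h : Std D) : Space D where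
  tt := h.grp.1
  conj := fun a _ b hb => h.grp.2.1 a b hb
  trans := fun a ha b hb => by
    obtain ⟨g, hg⟩ := h.prim.1 a ha b hb
    exact ⟨g, h.grp.2.2 ▸ Subgroup.mem_top g, hg⟩
  wide := h.wide
  connected := Primitive.connected h.grp h.prim h.wide
  sep := h.sep
  psep := h.psep

end Std

namespace Space

variable (h : Space E)
include h

theorem conj_closure {g : G} (hg : g ∈ Subgroup.closure E) : ∀ b ∈ E, g * b * g⁻¹ ∈ E :=
  conj_of_mem_closure h.conj hg

theorem not_central {a : G} (ha : a ∈ E) : ¬ ∀ e ∈ E, Commute a e := fun hc => by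
  obtain ⟨x, hx, y, hy, hxy, -⟩ := h.wide
  have hfix : ∀ b ∈ E, b = a := fun b hb => by
    obtain ⟨g, hg, rfl⟩ := h.trans a ha b hb
    refine mul_inv_eq_iff_eq_mul.2 ?_
    have : g ∈ Subgroup.centralizer {a} := (Subgroup.closure_le _).2
      (fun e he => Subgroup.mem_centralizer_singleton_iff.2 (hc e he).symm.eq) hg
    exact Subgroup.mem_centralizer_singleton_iff.1 this
  exact hxy ((hfix x hx).trans (hfix y hy).symm)

/-- A member as an element of the generated group. -/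
def lift (a : E) : ↥(Subgroup.closure E) := ⟨a, Subgroup.subset_closure a.2⟩

omit h in
theorem lift_mem (a : E) : (QuotientGroup.mk (lift (G := G) a) : Quot E) ∈ img E := ⟨lift a, a.2, rfl⟩

theorem eq_of_mk_eq {a b : ↥(Subgroup.closure E)} (ha : (a : G) ∈ E) (hb : (b : G) ∈ E)
    (e : (QuotientGroup.mk a : Quot E) = QuotientGroup.mk b) : a = b := by
  rw [QuotientGroup.eq, Subgroup.mem_center_iff] at e
  refine Subtype.ext (h.sep _ ha _ hb fun x hx => ?_)
  have ex := congrArg Subtype.val (e ⟨x, Subgroup.subset_closure hx⟩)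
  simp only [Subgroup.coe_mul, InvMemClass.coe_inv] at ex
  have hab : Commute x ((a : G)⁻¹ * (b : G)) := ex
  constructor
  · intro hax
    have := (hax.symm.mul_right hab).symm
    rwa [mul_inv_cancel_left] at this
  · intro hbx
    have := (hbx.symm.mul_right hab.inv_right).symm
    rwa [mul_inv_rev, inv_inv, mul_inv_cancel_left] at this

theorem commute_of_mk {a b : ↥(Subgroup.closure E)} (ha : (a : G) ∈ E) (hb : (b : G) ∈ E)
    (e : Commute (QuotientGroup.mk a : Quot E) (QuotientGroup.mk b)) : Commute (a : G) (b : G) := by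
  by_contra hc
  have ha2 : (QuotientGroup.mk a : Quot E) * QuotientGroup.mk a = 1 := by
    rw [← QuotientGroup.mk_mul, show a * a = 1 from Subtype.ext (Basic.sq h.tt ha)]; rfl
  have hb2 : (QuotientGroup.mk b : Quot E) * QuotientGroup.mk b = 1 := by
    rw [← QuotientGroup.mk_mul, show b * b = 1 from Subtype.ext (Basic.sq h.tt hb)]; rfl
  have h3 : ((QuotientGroup.mk a : Quot E) * QuotientGroup.mk b) ^ 3 = 1 := by
    rw [← QuotientGroup.mk_mul, ← QuotientGroup.mk_pow,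
      show (a * b) ^ 3 = 1 from Subtype.ext (Basic.cube_of_not_commute h.tt ha hb hc)]
    rfl
  have h1 : (QuotientGroup.mk a : Quot E) * QuotientGroup.mk b = 1 := by
    rw [pow_succ, (Basic.sq_prod_eq_one_iff ha2 hb2).2 e, one_mul] at h3
    exact h3
  have : a = b := h.eq_of_mk_eq ha hb (by
    rw [eq_inv_of_mul_eq_one_left h1, ← eq_inv_of_mul_eq_one_left hb2])
  exact hc (this ▸ Commute.refl _)

theorem img_tt : Cfsg.IsThreeTranspositionSet (img E) := by
  refine ⟨?_, ?_⟩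
  · rintro _ ⟨a, ha, rfl⟩
    refine orderOf_eq_prime ?_ fun h1 => h.not_central ha fun e he => ?_
    · rw [pow_two, ← QuotientGroup.mk_mul, show a * a = 1 from Subtype.ext (Basic.sq h.tt ha)]; rfl
    · rw [QuotientGroup.eq_one_iff, Subgroup.mem_center_iff] at h1
      exact (congrArg Subtype.val (h1 ⟨e, Subgroup.subset_closure he⟩)).symm
  · rintro _ ⟨a, ha, rfl⟩ _ ⟨b, hb, rfl⟩
    rw [← QuotientGroup.mk_mul, ← QuotientGroup.mk_pow, ← QuotientGroup.mk_pow]
    rcases h.tt.2 _ ha _ hb with e | e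
    · exact Or.inl (by rw [show (a * b) ^ 2 = 1 from Subtype.ext e]; rfl)
    · exact Or.inr (by rw [show (a * b) ^ 3 = 1 from Subtype.ext e]; rfl)

theorem img_group : Cfsg.IsThreeTranspositionGroup (img E) := by
  refine ⟨h.img_tt, ?_, ?_⟩
  · intro g x hx
    obtain ⟨a, ha, rfl⟩ := hx
    obtain ⟨g, rfl⟩ := QuotientGroup.mk_surjective g
    exact ⟨g * a * g⁻¹, h.conj_closure g.2 _ ha, rfl⟩
  · show Subgroup.closure ((QuotientGroup.mk' _) '' {x : ↥(Subgroup.closure E) | (x : G) ∈ E}) = ⊤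
    rw [← MonoidHom.map_closure, show Subgroup.closure {x : ↥(Subgroup.closure E) | (x : G) ∈ E} = ⊤ from
      Subgroup.closure_closure_coe_preimage, Subgroup.map_top_of_surjective _ (QuotientGroup.mk'_surjective _)]

theorem quot_trans : ∀ a ∈ img E, ∀ b ∈ img E, ∃ g : Quot E, g * a * g⁻¹ = b := by
  rintro _ ⟨a, ha, rfl⟩ _ ⟨b, hb, rfl⟩
  obtain ⟨g, hg, e⟩ := h.trans _ ha _ hb
  exact ⟨QuotientGroup.mk ⟨g, hg⟩, by
    rw [← show (⟨g, hg⟩ : ↥(Subgroup.closure E)) * a * (⟨g, hg⟩ : ↥(Subgroup.closure E))⁻¹ = b from Subtype.ext e]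
    rfl⟩

theorem quot_center : Subgroup.center (Quot E) = ⊥ := by
  rw [eq_bot_iff]
  intro z hz
  obtain ⟨g, rfl⟩ := QuotientGroup.mk_surjective z
  rw [Subgroup.mem_bot, QuotientGroup.eq_one_iff, ← Subgroup.centralizer_univ, ← Subgroup.coe_top,
    ← show Subgroup.closure {x : ↥(Subgroup.closure E) | (x : G) ∈ E} = ⊤ from
      Subgroup.closure_closure_coe_preimage, Subgroup.centralizer_closure, Subgroup.mem_centralizer_iff]
  intro a ha
  rw [Subgroup.mem_center_iff] at hz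
  have e : g * a * g⁻¹ = a := h.eq_of_mk_eq (h.conj_closure g.2 _ ha) ha (by
    rw [QuotientGroup.mk_mul, QuotientGroup.mk_mul, QuotientGroup.mk_inv, ← hz, mul_inv_cancel_right])
  exact (mul_inv_eq_iff_eq_mul.1 e).symm

theorem quot_commute {a b : E} :
    Commute (QuotientGroup.mk (lift a) : Quot E) (QuotientGroup.mk (lift b)) ↔ Commute (a : G) b :=
  ⟨h.commute_of_mk a.2 b.2, fun hc =>
    (show Commute (lift a) (lift b) from Subtype.ext hc).map (QuotientGroup.mk' _)⟩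

/-- The bijection with the image. -/
theorem exists_equiv : ∃ e : E ≃ img E, ∀ a b : E, Commute ((e a : img E) : Quot E) (e b) ↔ Commute (a : G) b := by
  refine ⟨Equiv.ofBijective (fun a => ⟨_, lift_mem a⟩) ⟨fun a b e => ?_, ?_⟩, fun a b => h.quot_commute⟩
  · exact Subtype.ext (congrArg (fun z : ↥(Subgroup.closure E) => (z : G))
      (h.eq_of_mk_eq (a := lift a) (b := lift b) a.2 b.2 (congrArg Subtype.val e)))
  · rintro ⟨_, a, ha, rfl⟩
    exact ⟨⟨a, ha⟩, rfl⟩

/-- A space gives a centreless primitive group. -/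
theorem quot : Std (img E) := by
  obtain ⟨e, he⟩ := h.exists_equiv
  have comm : ∀ a b : E, Commute ((e a : img E) : Quot E) (e b) ↔ Commute (a : G) b := he
  obtain ⟨a, ha, b, hb, hab, hc⟩ := h.wide
  have hw : ∃ x ∈ img E, ∃ y ∈ img E, x ≠ y ∧ Commute x y :=
    ⟨_, (e ⟨a, ha⟩).2, _, (e ⟨b, hb⟩).2,
      fun k => hab (congrArg Subtype.val (e.injective (Subtype.ext k))), (he _ _).2 hc⟩
  have hsep : ∀ x ∈ img E, ∀ y ∈ img E, (∀ z ∈ img E, Commute x z ↔ Commute y z) → x = y := by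
    intro x hx y hy k
    obtain ⟨p, hp⟩ := e.surjective ⟨x, hx⟩
    obtain ⟨q, hq⟩ := e.surjective ⟨y, hy⟩
    obtain rfl : x = (e p : Quot E) := (congrArg Subtype.val hp).symm
    obtain rfl : y = (e q : Quot E) := (congrArg Subtype.val hq).symm
    rw [show p = q from Subtype.ext (h.sep _ p.2 _ q.2 fun z hz => by
      rw [← he p ⟨z, hz⟩, ← he q ⟨z, hz⟩]; exact k _ (e ⟨z, hz⟩).2)]
  have hpsep : ∀ x ∈ img E, ∀ y ∈ img E, nb (img E) x = nb (img E) y → x = y := by
    intro x hx y hy k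
    obtain ⟨p, hp⟩ := e.surjective ⟨x, hx⟩
    obtain ⟨q, hq⟩ := e.surjective ⟨y, hy⟩
    obtain rfl : x = (e p : Quot E) := (congrArg Subtype.val hp).symm
    obtain rfl : y = (e q : Quot E) := (congrArg Subtype.val hq).symm
    rw [show p = q from Subtype.ext (h.psep _ p.2 _ q.2 (Set.ext fun z => ?_))]
    have key : ∀ (r : E) (hz : z ∈ E), (e ⟨z, hz⟩ : Quot E) ∈ nb (img E) (e r) ↔ z ∈ nb E (r : G) := fun r hz =>
      ⟨fun t => ⟨hz, fun zr => t.2.1 (by rw [show (⟨z, hz⟩ : E) = r from Subtype.ext zr]), (he _ _).1 t.2.2⟩,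
        fun t => ⟨(e _).2, fun zr => t.2.1 (congrArg Subtype.val (e.injective (Subtype.ext zr))),
          (he _ _).2 t.2.2⟩⟩
    exact ⟨fun t => (key q t.1).1 (k ▸ (key p t.1).2 t), fun t => (key p t.1).1 (k ▸ (key q t.1).2 t)⟩
  obtain ⟨z2, z3⟩ := cores_le_center h.img_group hsep hpsep
  rw [h.quot_center, le_bot_iff] at z2 z3
  obtain ⟨x, hx, -⟩ := id hw
  refine ⟨h.img_group, ((S5361.result (mk_class h.img_group h.quot_trans ⟨x, hx⟩) h.quot_center hw).2.2
    ⟨z2, z3, ?_⟩), hw, h.quot_center⟩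
  have hadj : ∀ p q : E, (Cfsg.commutingGraph E).Adj p q →
      (Cfsg.commutingGraph (img E)).Adj (e p) (e q) := fun p q hpq => by
    simp only [Cfsg.commutingGraph, SimpleGraph.fromRel_adj] at hpq ⊢
    exact ⟨fun k => hpq.1 (e.injective k), hpq.2.imp (he p q).2 (he q p).2⟩
  haveI : Nonempty (img E) := ⟨e ⟨a, ha⟩⟩
  refine ⟨fun u v => ?_⟩
  have hr := (h.connected.preconnected (e.symm u) (e.symm v)).map
    (⟨e, fun {p q} hpq => hadj p q hpq⟩ : Cfsg.commutingGraph E →g Cfsg.commutingGraph (img E))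
  simpa using hr

end Space

end Cfsg.Agent.Fischer
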